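import Mathlib

/-!
Singer elements of `GL_n(F)` and orders of semisimple elements, `F` finite.
-/

set_option autoImplicit false

namespace CfsgLib.Singer

open Matrix Polynomial

variable {F : Type*} [Field F]

/-- `A ↦ A ⊕ 1`. -/
def padHom {d n : ℕ} (h : d ≤ n) : Matrix (Fin d) (Fin d) F →* Matrix (Fin n) (Fin n) F where
  toFun A := (Matrix.fromBlocks A 0 0 1).submatrix
    (finSumFinEquiv.trans (finCongr (Nat.add_sub_cancel' h))).symm
    (finSumFinEquiv.trans (finCongr (Nat.add_sub_cancel' h))).symm
  map_one' := by rw [Matrix.fromBlocks_one, Matrix.submatrix_one_equiv]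
  map_mul' A B := by
    rw [Matrix.submatrix_mul_equiv, Matrix.fromBlocks_multiply]
    simp

lemma padHom_injective {d n : ℕ} (h : d ≤ n) : Function.Injective (padHom (F := F) h) := by
  intro A B hAB
  ext i j
  have := congrFun (congrFun hAB
    ((finSumFinEquiv.trans (finCongr (Nat.add_sub_cancel' h))) (.inl i)))
    ((finSumFinEquiv.trans (finCongr (Nat.add_sub_cancel' h))) (.inl j))
  simpa [padHom] using this

/-- `padHom` on units. -/
def padGL {d n : ℕ} (h : d ≤ n) : GL (Fin d) F →* GL (Fin n) F := Units.map (padHom h)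

lemma padGL_injective {d n : ℕ} (h : d ≤ n) : Function.Injective (padGL (F := F) h) :=
  fun _ _ hab => Units.ext (padHom_injective h (congrArg Units.val hab))

/-- The regular representation of a degree-`d` extension field. -/
theorem exists_fieldExt_embedding [Finite F] (d : ℕ) (hd : 1 ≤ d) :
    ∃ (K : Type) (_ : Field K) (_ : Finite K) (_ : Algebra F K)
      (φ : K →ₐ[F] Matrix (Fin d) (Fin d) F),
      Function.Injective φ ∧ Nat.card K = Nat.card F ^ d := by
  obtain ⟨p, hp⟩ := CharP.exists F
  have hpp : p.Prime := CharP.char_is_prime F p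
  have := Fact.mk hpp
  have : NeZero d := ⟨by omega⟩
  refine ⟨FiniteField.Extension F p d, inferInstance, inferInstance, inferInstance,
    Algebra.leftMulMatrix (Module.finBasisOfFinrankEq F _ (FiniteField.finrank_extension F p d)),
    Algebra.leftMulMatrix_injective _, FiniteField.natCard_extension F p d⟩

/-- A Singer element of `GL_d`: it has order `q^d - 1`. -/
theorem exists_orderOf_eq [Finite F] {d n : ℕ} (hd : 1 ≤ d) (hdn : d ≤ n) :
    ∃ g : GL (Fin n) F, orderOf g = Nat.card F ^ d - 1 := by
  obtain ⟨K, _, _, _, φ, hφ, hc⟩ := exists_fieldExt_embedding (F := F) d hd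
  obtain ⟨u, hu⟩ := IsCyclic.exists_generator (α := Kˣ)
  have hinj : Function.Injective ((padGL hdn).comp (Units.map φ.toRingHom.toMonoidHom)) :=
    (padGL_injective hdn).comp fun _ _ h => Units.ext (hφ (congrArg Units.val h))
  refine ⟨(padGL hdn).comp (Units.map φ.toRingHom.toMonoidHom) u, ?_⟩
  rw [orderOf_injective _ hinj, orderOf_eq_card_of_forall_mem_zpowers hu, Nat.card_units, hc]

/-- A prime power element order prime to the characteristic divides some `q^d - 1`, `d ≤ n`. -/
theorem exists_dvd_pow_sub_one [Finite F] {n p b : ℕ} (hp : p.Prime) (hpF : (p : F) ≠ 0)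
    {g : GL (Fin n) F} (hg : orderOf g = p ^ (b + 1)) :
    ∃ d, 1 ≤ d ∧ d ≤ n ∧ p ^ (b + 1) ∣ Nat.card F ^ d - 1 := by
  classical
  set A : Matrix (Fin n) (Fin n) F := (g : Matrix (Fin n) (Fin n) F) with hA
  set m := minpoly F A with hm
  set N := p ^ (b + 1)
  have hAint : IsIntegral F A := Matrix.isIntegral A
  have hAN : A ^ N = 1 := by rw [hA, ← Units.val_pow_eq_pow_val, ← hg, pow_orderOf_eq_one]; rfl
  have hdvd : m ∣ X ^ N - 1 := minpoly.dvd F A (by simp [hAN])
  have hN0 : ((N : ℕ) : F) ≠ 0 := by rw [Nat.cast_pow]; exact pow_ne_zero _ hpF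
  have hsq : Squarefree m :=
    (X_pow_sub_one_separable_iff.2 hN0).squarefree.squarefree_of_dvd hdvd
  have hm0 : m ≠ 0 := minpoly.ne_zero hAint
  set q : F[X] := X ^ p ^ b - 1 with hq
  have hnd : ¬ m ∣ q := by
    rintro ⟨r, hr⟩
    have : A ^ p ^ b = 1 := by
      have h1 : aeval A q = 0 := by rw [hr, map_mul, minpoly.aeval, zero_mul]
      simpa [hq, sub_eq_zero] using h1
    have hdv : orderOf g ∣ p ^ b := orderOf_dvd_of_pow_eq_one (Units.ext (by simpa using this))
    rw [hg, Nat.pow_dvd_pow_iff_le_right hp.one_lt] at hdv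
    omega
  obtain ⟨f, hf, hfq⟩ : ∃ f ∈ UniqueFactorizationMonoid.normalizedFactors m, ¬ f ∣ q := by
    by_contra hall
    push Not at hall
    refine hnd (hsq.isRadical (Multiset.card (UniqueFactorizationMonoid.normalizedFactors m)) q ?_)
    refine (UniqueFactorizationMonoid.prod_normalizedFactors hm0).symm.dvd.trans ?_
    have key : ∀ s : Multiset F[X], (∀ x ∈ s, x ∣ q) → s.prod ∣ q ^ Multiset.card s := by
      intro s
      induction s using Multiset.induction with
      | empty => simp
      | cons a s ih =>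
        intro h
        rw [Multiset.prod_cons, Multiset.card_cons, pow_succ']
        exact mul_dvd_mul (h a (Multiset.mem_cons_self a s))
          (ih fun x hx => h x (Multiset.mem_cons_of_mem hx))
    exact key _ hall
  have hfi : Irreducible f := UniqueFactorizationMonoid.irreducible_of_normalized_factor f hf
  have hfm : f ∣ m := UniqueFactorizationMonoid.dvd_of_mem_normalizedFactors hf
  have := Fact.mk hfi
  set d := f.natDegree
  have hd1 : 1 ≤ d := Irreducible.natDegree_pos hfi
  have hdn : d ≤ n := by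
    have h1 := natDegree_le_of_dvd hfm hm0
    have h2 := natDegree_le_of_dvd (Matrix.minpoly_dvd_charpoly A) A.charpoly_monic.ne_zero
    rw [Matrix.charpoly_natDegree_eq_dim, Fintype.card_fin, ← hm] at h2
    omega
  refine ⟨d, hd1, hdn, ?_⟩
  set α := AdjoinRoot.root f
  have hfin : Module.Finite F (AdjoinRoot f) := (AdjoinRoot.powerBasis hfi.ne_zero).finite
  have : Finite (AdjoinRoot f) := Module.finite_of_finite F
  have hcard : Nat.card (AdjoinRoot f) = Nat.card F ^ d := by
    rw [Module.natCard_eq_pow_finrank (K := F), (AdjoinRoot.powerBasis hfi.ne_zero).finrank,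
      AdjoinRoot.powerBasis_dim]
  have hαN : α ^ N = 1 := by
    have : AdjoinRoot.mk f (X ^ N - 1) = 0 := AdjoinRoot.mk_eq_zero.2 (hfm.trans hdvd)
    simpa [sub_eq_zero] using this
  have hαq : ¬ α ^ p ^ b = 1 := fun h => hfq (AdjoinRoot.mk_eq_zero.1 (by simp [hq, α] at h ⊢; simp [h]))
  have hα0 : α ≠ 0 := fun h => by simp [h, N, hp.ne_zero] at hαN
  have : Fact p.Prime := ⟨hp⟩
  have hord : orderOf (Units.mk0 α hα0) = N := by
    refine orderOf_eq_prime_pow (fun h => hαq ?_) (Units.ext (by simpa using hαN))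
    simpa using congrArg Units.val h
  rw [← hcard, ← hord, ← Nat.card_units]
  exact orderOf_dvd_natCard _

/-- The element orders of `g ↦` a power with prescribed order dividing `orderOf g`. -/
theorem exists_orderOf_eq_of_dvd {G : Type*} [Monoid G] (g : G) (hg : 0 < orderOf g) {m : ℕ}
    (h : m ∣ orderOf g) : ∃ x : G, orderOf x = m := by
  obtain ⟨k, hk⟩ := h
  refine ⟨g ^ k, ?_⟩
  rw [orderOf_pow' _ (by rintro rfl; simp [hk] at hg), hk, Nat.gcd_mul_left_left,
    Nat.mul_div_cancel _ (Nat.pos_of_ne_zero (by rintro rfl; simp [hk] at hg))]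

end CfsgLib.Singer
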