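import Cfsg.Agent.Lib.Singer.Basic

/-!
Matrix representations of a field of the same degree are conjugate; nilpotent matrices.
-/

set_option autoImplicit false

namespace CfsgLib.Singer

open Matrix Polynomial

variable {F : Type*} [Field F]

section Via

variable {K : Type*} [Field K] [Algebra F K] {n : ℕ}

/-- `F^n` as a `K`-space through `φ`. -/
def Via (_φ : K →ₐ[F] Matrix (Fin n) (Fin n) F) := Fin n → F

variable (φ : K →ₐ[F] Matrix (Fin n) (Fin n) F)

instance : AddCommGroup (Via φ) := inferInstanceAs (AddCommGroup (Fin n → F))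
instance : Module F (Via φ) := inferInstanceAs (Module F (Fin n → F))

/-- The matrix action, on the type synonym. -/
def Via.act (a : K) (v : Via φ) : Via φ := Matrix.mulVec (φ a) (v : Fin n → F)

instance : Module K (Via φ) where
  smul a v := Via.act φ a v
  one_smul v := (congrArg (fun M => Matrix.mulVec M (v : Fin n → F)) (map_one φ)).trans
    (Matrix.one_mulVec _)
  mul_smul a b v := (congrArg (fun M => Matrix.mulVec M (v : Fin n → F)) (map_mul φ a b)).trans
    (Matrix.mulVec_mulVec (v : Fin n → F) (φ a) (φ b)).symm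
  smul_zero a := Matrix.mulVec_zero (φ a)
  smul_add a u v := Matrix.mulVec_add (φ a) (u : Fin n → F) v
  add_smul a b v := (congrArg (fun M => Matrix.mulVec M (v : Fin n → F)) (map_add φ a b)).trans
    (Matrix.add_mulVec (φ a) (φ b) (v : Fin n → F))
  zero_smul v := (congrArg (fun M => Matrix.mulVec M (v : Fin n → F)) (map_zero φ)).trans
    (Matrix.zero_mulVec _)

instance : IsScalarTower F K (Via φ) where
  smul_assoc r a v := (congrArg (fun M => Matrix.mulVec M (v : Fin n → F)) (map_smul φ r a)).trans
    (Matrix.smul_mulVec r (φ a) (v : Fin n → F))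

instance : Module.Finite F (Via φ) := inferInstanceAs (Module.Finite F (Fin n → F))

lemma finrank_via : Module.finrank F (Via φ) = n := Module.finrank_fin_fun F

lemma finrank_mul_via : Module.finrank F K * Module.finrank K (Via φ) = n := by
  rw [Module.finrank_mul_finrank, finrank_via]

/-- Two representations of `K` in the same dimension are conjugate. -/
theorem exists_conj [Module.Finite F K] (ψ : K →ₐ[F] Matrix (Fin n) (Fin n) F) :
    ∃ g : GL (Fin n) F, ∀ x, (g : Matrix (Fin n) (Fin n) F) * φ x = ψ x * g := by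
  have : Module.Finite K (Via φ) := Module.Finite.of_restrictScalars_finite F K (Via φ)
  have : Module.Finite K (Via ψ) := Module.Finite.of_restrictScalars_finite F K (Via ψ)
  have h := (finrank_mul_via φ).trans (finrank_mul_via ψ).symm
  obtain ⟨e⟩ := FiniteDimensional.nonempty_linearEquiv_of_finrank_eq
    (Nat.eq_of_mul_eq_mul_left (Module.finrank_pos (R := F) (M := K)) h)
  let e' : (Fin n → F) ≃ₗ[F] (Fin n → F) := e.restrictScalars F
  let A := LinearMap.toMatrix' e'.toLinearMap
  let B := LinearMap.toMatrix' e'.symm.toLinearMap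
  have hAB : A * B = 1 := by
    rw [← LinearMap.toMatrix'_comp, LinearEquiv.comp_coe, LinearEquiv.symm_trans_self]
    exact LinearMap.toMatrix'_id
  refine ⟨⟨A, B, hAB, mul_eq_one_comm.1 hAB⟩, fun x => ?_⟩
  show A * φ x = ψ x * A
  refine Matrix.ext_of_mulVec_single fun i => ?_
  simp only [← Matrix.mulVec_mulVec, A, LinearMap.toMatrix'_mulVec]
  exact e.map_smul x (Pi.single i (1 : F) : Fin n → F)

end Via

/-- A nilpotent `n × n` matrix vanishes at the `n`-th power. -/
theorem pow_card_eq_zero_of_isNilpotent {n : ℕ} {A : Matrix (Fin n) (Fin n) F}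
    (h : IsNilpotent A) : A ^ n = 0 := by
  obtain ⟨k, hk⟩ := h
  have hd : minpoly F A ∣ X ^ k := minpoly.dvd F A (by simp [hk])
  obtain ⟨j, -, hj⟩ := (dvd_prime_pow Polynomial.prime_X k).1 hd
  have he : minpoly F A = X ^ j :=
    eq_of_monic_of_associated (minpoly.monic (Matrix.isIntegral A)) (monic_X_pow j) hj
  have hjn : j ≤ n := by
    have h2 := natDegree_le_of_dvd (Matrix.minpoly_dvd_charpoly A) A.charpoly_monic.ne_zero
    rwa [he, natDegree_X_pow, Matrix.charpoly_natDegree_eq_dim, Fintype.card_fin] at h2
  have h0 : A ^ j = 0 := by simpa [he] using minpoly.aeval F A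
  exact pow_eq_zero_of_le hjn h0

end CfsgLib.Singer
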