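import Cfsg.Agent.Lib.Singer.Basic
import Mathlib.RingTheory.LittleWedderburn
import Mathlib.FieldTheory.Finite.GaloisField

/-!
# The Singer torus of `SL_n(q)` through an element of primitive prime order
-/

set_option autoImplicit false
set_option linter.unusedSectionVars false

namespace CfsgLib.Singer.Torus

open Polynomial

/-- The fixed field of `x ↦ x^q` in a finite extension. -/
theorem exists_algebraMap {F K : Type*} [Field F] [Field K] [Algebra F K] [Fintype F] {x : K}
    (h : x ^ (Fintype.card F - 1) = 1) : ∃ c : F, algebraMap F K c = x := by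
  classical
  set q := Fintype.card F
  have hq : 1 < q := Fintype.one_lt_card
  have hne : (X ^ q - X : K[X]) ≠ 0 := FiniteField.X_pow_card_sub_X_ne_zero K hq
  set S : Finset K := Finset.univ.image (algebraMap F K)
  have hS : S.card = q := Finset.card_image_of_injective _ (algebraMap F K).injective
  have hroot : ∀ y : K, y ^ q = y → y ∈ (X ^ q - X : K[X]).roots.toFinset := fun y hy => by
    rw [Multiset.mem_toFinset, mem_roots hne, IsRoot.def, eval_sub, eval_pow, eval_X, hy, sub_self]
  have hsub : S ⊆ (X ^ q - X : K[X]).roots.toFinset := fun y hy => by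
    obtain ⟨c, -, rfl⟩ := Finset.mem_image.mp hy
    exact hroot _ (by rw [← map_pow, FiniteField.pow_card])
  have hcard : (X ^ q - X : K[X]).roots.toFinset.card ≤ q :=
    ((X ^ q - X : K[X]).roots.toFinset_card_le.trans (card_roots' _)).trans
      (le_of_eq (FiniteField.X_pow_card_sub_X_natDegree_eq K hq))
  have hx : x ∈ S := by
    rw [Finset.eq_of_subset_of_card_le hsub (hS.symm ▸ hcard)]
    refine hroot x ?_
    conv_rhs => rw [← one_mul x, ← h]
    rw [← pow_succ]
    congr 1
    omega
  obtain ⟨c, -, hc⟩ := Finset.mem_image.mp hx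
  exact ⟨c, hc⟩

section Irreducible

variable {F V : Type*} [Field F] [Fintype F] [AddCommGroup V] [Module F V] [Finite V]

/-- An element of prime order `r` fixing only `0` forces `r ∣ q^dim - 1`. -/
theorem dvd_of_fpf {r : ℕ} (hr : r.Prime) (T : Module.End F V) (hT : T ^ r = 1)
    (hfix : ∀ v, T v = v → v = 0) : r ∣ Fintype.card F ^ Module.finrank F V - 1 := by
  have := Fact.mk hr
  have hu : IsUnit T := IsUnit.of_pow_eq_one hT hr.ne_zero
  set u := hu.unit
  have hu7 : u ^ r = 1 := Units.ext (by rw [Units.val_pow_eq_pow_val]; exact hT)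
  have hG : IsPGroup r (Subgroup.zpowers u) := by
    rintro ⟨_, k, rfl⟩
    exact ⟨1, Subtype.ext (by
      show (u ^ k) ^ (r ^ 1) = 1
      rw [pow_one, ← zpow_natCast, ← zpow_mul, mul_comm, zpow_mul, zpow_natCast, hu7, one_zpow])⟩
  have hfp : MulAction.fixedPoints (Subgroup.zpowers u) V = {0} := by
    ext v
    simp only [MulAction.mem_fixedPoints, Set.mem_singleton_iff]
    refine ⟨fun h => hfix v (h ⟨u, Subgroup.mem_zpowers u⟩), fun h g => ?_⟩
    subst h
    exact smul_zero (g : (Module.End F V)ˣ)
  have h := hG.card_modEq_card_fixedPoints V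
  rw [hfp, Nat.card_coe_set_eq, Set.ncard_singleton, Module.natCard_eq_pow_finrank (K := F),
    Nat.card_eq_fintype_card] at h
  exact (Nat.modEq_iff_dvd' (Nat.one_le_pow _ _ Fintype.card_pos)).mp h.symm

variable {n r : ℕ} (hV : Module.finrank F V = n) (hr : r.Prime) (hr0 : (r : F) ≠ 0)
  (hprim : ∀ i, 0 < i → i < n → ¬ r ∣ Fintype.card F ^ i - 1)
  (T : Module.End F V) (hT : T ^ r = 1) (hT1 : T ≠ 1)

include hV hr hr0 hprim hT hT1

theorem fixed_eq_zero : ∀ v, T v = v → v = 0 := by
  intro v hv
  by_contra hv0
  set W := LinearMap.range (T - 1) with hW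
  set L := LinearMap.ker (T - 1) with hL
  have hdisj : ∀ x ∈ W, T x = x → x = 0 := by
    rintro _ ⟨u, rfl⟩ hx
    set x := (T - 1) u
    have hstep : ∀ i : ℕ, (T ^ i) u = u + (i : F) • x := by
      intro i
      induction i with
      | zero => simp
      | succ i ih =>
        rw [pow_succ', Module.End.mul_apply, ih, map_add, map_smul, hx,
          show T u = u + x by simp [x], Nat.cast_succ, add_smul, one_smul]
        abel
    have h := hstep r
    rw [hT, Module.End.one_apply, left_eq_add] at h
    exact (smul_eq_zero.mp h).resolve_left hr0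
  have hLpos : 0 < Module.finrank F L := by
    rw [Nat.pos_iff_ne_zero, ne_eq, Submodule.finrank_eq_zero]
    exact fun h => hv0 ((Submodule.mem_bot F).mp (h ▸ (by simp [hL, hv] : v ∈ L)))
  have hsum : Module.finrank F W + Module.finrank F L = n :=
    (LinearMap.finrank_range_add_finrank_ker _).trans hV
  have hWpos : 0 < Module.finrank F W := by
    rw [Nat.pos_iff_ne_zero, ne_eq, Submodule.finrank_eq_zero, LinearMap.range_eq_bot, sub_eq_zero]
    exact hT1
  have hinv : ∀ x ∈ W, T x ∈ W := by
    rintro _ ⟨u, rfl⟩
    exact ⟨T u, by simp⟩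
  refine hprim _ hWpos (by omega) (dvd_of_fpf hr (T.restrict hinv) ?_ fun x hx => ?_)
  · rw [Module.End.pow_restrict (h := hinv)]
    ext x
    simp [hT]
  · exact Subtype.ext (hdisj _ x.2 (congrArg Subtype.val hx))

theorem invariant_eq (U : Submodule F V) (hinv : ∀ x ∈ U, T x ∈ U) : U = ⊥ ∨ U = ⊤ := by
  by_contra hne
  push Not at hne
  refine hprim (Module.finrank F U) ?_ (hV ▸ Submodule.finrank_lt hne.2) (dvd_of_fpf hr
    (T.restrict hinv) ?_ fun x hx => ?_)
  · rw [Nat.pos_iff_ne_zero, ne_eq, Submodule.finrank_eq_zero]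
    exact hne.1
  · rw [Module.End.pow_restrict (h := hinv)]
    ext x
    simp [hT]
  · exact Subtype.ext (fixed_eq_zero hV hr hr0 hprim T hT hT1 _ (congrArg Subtype.val hx))

/-- Whatever commutes with `T` and has determinant one lies in the norm-one torus. -/
theorem pow_scalar {s : Module.End F V} (hs : Commute s T) (hdet : LinearMap.det s = 1)
    {i : ℕ} (hi : (Fintype.card F ^ n - 1) / (Fintype.card F - 1) ∣ i * (Fintype.card F - 1)) :
    ∃ c : F, s ^ i = c • 1 := by
  classical
  haveI : Finite (Module.End F V) := Finite.of_injective _ DFunLike.coe_injective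
  set K := Algebra.adjoin F ({T} : Set (Module.End F V))
  have hcomm : ∀ a ∈ ({T} : Set (Module.End F V)), ∀ b ∈ ({T} : Set (Module.End F V)),
      a * b = b * a := by simp
  letI : CommRing K := Algebra.adjoinCommRingOfComm F hcomm
  have hwith : ∀ u : Module.End F V, Commute u T → ∀ k : K, Commute u (k : Module.End F V) := by
    intro u hu k
    have hk : (k : Module.End F V) ∈ Subalgebra.centralizer F ({u} : Set (Module.End F V)) := by
      refine Algebra.adjoin_le ?_ k.2
      rw [Set.singleton_subset_iff]
      intro g hg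
      rw [Set.mem_singleton_iff] at hg
      subst hg
      exact hu.eq
    exact hk u rfl
  have hker : ∀ k : K, k ≠ 0 → LinearMap.ker (k : Module.End F V) = ⊥ := by
    intro k hk
    refine (invariant_eq hV hr hr0 hprim T hT hT1 _ ?_).resolve_right fun h => hk ?_
    · intro x hx
      rw [LinearMap.mem_ker] at hx ⊢
      have := LinearMap.congr_fun (hwith T (Commute.refl T) k).eq x
      simp only [Module.End.mul_apply] at this
      rw [← this, hx, map_zero]
    · exact Subtype.ext (LinearMap.ker_eq_top.mp h)
  obtain ⟨w, hw⟩ : ∃ w : V, w ≠ 0 := by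
    by_contra hno
    push Not at hno
    exact hT1 (LinearMap.ext fun v => by rw [hno v, map_zero, map_zero])
  haveI : Nontrivial K :=
    ⟨⟨0, 1, fun h => hw (LinearMap.congr_fun (congrArg Subtype.val h) w).symm⟩⟩
  haveI : NoZeroDivisors K := ⟨fun {a b} hab => by
    by_cases ha : a = 0
    · exact Or.inl ha
    · refine Or.inr (Subtype.ext (LinearMap.ext fun x => LinearMap.ker_eq_bot.mp (hker a ha) ?_))
      show (a : Module.End F V) ((b : Module.End F V) x) = (a : Module.End F V) 0
      rw [map_zero]
      exact LinearMap.congr_fun (congrArg Subtype.val hab) x⟩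
  haveI : IsDomain K := NoZeroDivisors.to_isDomain _
  letI : Field K := (Finite.isField_of_domain K).toField
  haveI : Fintype K := Fintype.ofFinite _
  let ev : K →ₗ[F] V := (LinearMap.applyₗ (R := F) w).comp K.val.toLinearMap
  have hev : Function.Injective ev := fun a b hab => by
    by_contra hne
    refine hw (LinearMap.ker_eq_bot.mp (hker (a - b) (sub_ne_zero.mpr hne)) ?_)
    show ((a : Module.End F V) - b) w = ((a : Module.End F V) - b) 0
    rw [map_zero, LinearMap.sub_apply, sub_eq_zero]
    exact hab
  have hq1 : 1 < Fintype.card F := Fintype.one_lt_card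
  have hKcard : Nat.card K = Fintype.card F ^ Module.finrank F K := by
    rw [Module.natCard_eq_pow_finrank (K := F), Nat.card_eq_fintype_card]
  have hrank : Module.finrank F K = n := by
    refine le_antisymm (hV ▸ LinearMap.finrank_le_finrank_of_injective hev) ?_
    by_contra hlt
    push Not at hlt
    let t : K := ⟨T, Algebra.subset_adjoin rfl⟩
    have ht : t ^ r = 1 := Subtype.ext hT
    have ht0 : t ≠ 0 := fun h => by rw [h, zero_pow hr.ne_zero] at ht; exact zero_ne_one ht
    have hord : orderOf (Units.mk0 t ht0) = r := by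
      refine orderOf_eq_prime (hp := ⟨hr⟩) (Units.ext ht) fun h => hT1 ?_
      exact congrArg (fun z : Kˣ => ((z : K) : Module.End F V)) h
    have hdvd : r ∣ Fintype.card F ^ Module.finrank F K - 1 := by
      rw [← hKcard, ← Nat.card_units, ← hord]
      exact orderOf_dvd_natCard _
    exact hprim _ Module.finrank_pos hlt hdvd
  let e : K ≃ₗ[F] V := LinearEquiv.ofInjectiveOfFinrankEq ev hev (hrank.trans hV.symm)
  set a := e.symm (s w)
  have hsa : s = (e : K →ₗ[F] V) ∘ₗ LinearMap.mulLeft F a ∘ₗ (e.symm : V →ₗ[F] K) := by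
    refine LinearMap.ext fun v => ?_
    obtain ⟨k, rfl⟩ := e.surjective v
    simp only [LinearMap.comp_apply, LinearEquiv.coe_coe, LinearEquiv.symm_apply_apply,
      LinearMap.mulLeft_apply]
    have h1 : e k = (k : Module.End F V) w := rfl
    have h2 : e (a * k) = (k : Module.End F V) ((a : Module.End F V) w) := by
      rw [mul_comm]; rfl
    have h3 : (a : Module.End F V) w = s w := e.apply_symm_apply (s w)
    rw [h1, h2, h3]
    exact LinearMap.congr_fun (hwith s hs k).eq w
  have hsa' : s = (a : Module.End F V) := by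
    refine LinearMap.ext fun v => ?_
    obtain ⟨k, rfl⟩ := e.surjective v
    show s ((k : Module.End F V) w) = (a : Module.End F V) ((k : Module.End F V) w)
    have h3 : (a : Module.End F V) w = s w := e.apply_symm_apply (s w)
    have hl := LinearMap.congr_fun (hwith s hs k).eq w
    have hr' := LinearMap.congr_fun (congrArg Subtype.val (mul_comm a k)) w
    simp only [Module.End.mul_apply] at hl
    show s ((k : Module.End F V) w) = _
    rw [hl, ← h3]
    exact hr'.symm
  have hnorm : Algebra.norm F a = 1 := by
    rw [Algebra.norm_apply, ← hdet, hsa, LinearMap.det_conj]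
    rfl
  have hpow : a ^ ((Fintype.card F ^ n - 1) / (Fintype.card F - 1)) = 1 := by
    have h := FiniteField.algebraMap_norm_eq_pow (K := F) (K' := K) (x := a)
    rw [hnorm, map_one, hKcard, hrank, Nat.card_eq_fintype_card] at h
    exact h.symm
  obtain ⟨c, hc⟩ := exists_algebraMap (F := F) (x := a ^ i) (by
    obtain ⟨t, ht⟩ := hi
    rw [← pow_mul, ht, pow_mul, hpow, one_pow])
  refine ⟨c, ?_⟩
  rw [hsa', ← SubmonoidClass.coe_pow, ← hc, ← Algebra.algebraMap_eq_smul_one]
  rfl

end Irreducible

end CfsgLib.Singer.Torus
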